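import Groth.Agent.DRing.PerfColim.Matrix
import Mathlib.Algebra.Category.Ring.FilteredColimits
import Mathlib.CategoryTheory.Limits.ConcreteCategory.Basic
import Mathlib.Data.Int.Interval

/-!
# Perfect complexes descend to a stage of a filtered colimit of rings
-/

universe u

open CategoryTheory CategoryTheory.Limits
attribute [local instance] HasDerivedCategory.standard

namespace Groth.Agent.DRing.PerfColim

variable {J : Type u} [SmallCategory J] [IsFiltered J] {F : J ⥤ CommRingCat.{u}} {c : Cocone F}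
  (hc : IsColimit c)

theorem ι_map {j k : J} (f : j ⟶ k) (x : F.obj j) :
    (c.ι.app k).hom ((F.map f).hom x) = (c.ι.app j).hom x := by
  have h := c.w f
  exact congrArg (fun g : F.obj j ⟶ c.pt => g.hom x) h

include hc in
theorem exists_lift {T : Type*} (s : Finset T) (x : T → c.pt) :
    ∃ (j : J) (y : T → F.obj j), ∀ t ∈ s, (c.ι.app j).hom (y t) = x t := by
  classical
  induction s using Finset.induction_on with
  | empty => exact ⟨Classical.choice IsFiltered.nonempty, fun _ => 0, by simp⟩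
  | insert a s ha ih =>
    obtain ⟨j, y, hy⟩ := ih
    obtain ⟨i, z, hz⟩ := Concrete.isColimit_exists_rep F hc (x a)
    let k := IsFiltered.max i j
    refine ⟨k, Function.update (fun t => (F.map (IsFiltered.rightToMax i j)).hom (y t)) a
      ((F.map (IsFiltered.leftToMax i j)).hom z), fun t ht => ?_⟩
    rcases Finset.mem_insert.1 ht with rfl | ht
    · rw [Function.update_self, ι_map]; exact hz
    · rw [Function.update_of_ne (fun e : t = a => ha (e ▸ ht)), ι_map]; exact hy t ht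

include hc in
theorem exists_eq {T : Type*} {j : J} (s : Finset T) (x y : T → F.obj j)
    (h : ∀ t ∈ s, (c.ι.app j).hom (x t) = (c.ι.app j).hom (y t)) :
    ∃ (k : J) (f : j ⟶ k), ∀ t ∈ s, (F.map f).hom (x t) = (F.map f).hom (y t) := by
  classical
  induction s using Finset.induction_on with
  | empty => exact ⟨j, 𝟙 j, by simp⟩
  | insert a s ha ih =>
    obtain ⟨k, f, hf⟩ := ih fun t ht => h t (Finset.mem_insert_of_mem ht)
    have e : (c.ι.app k).hom ((F.map f).hom (x a)) = (c.ι.app k).hom ((F.map f).hom (y a)) := by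
      rw [ι_map, ι_map]; exact h a (Finset.mem_insert_self _ _)
    obtain ⟨l, g, g', hg⟩ := Concrete.isColimit_exists_of_rep_eq F hc _ _ e
    refine ⟨IsFiltered.coeq g g', f ≫ g ≫ IsFiltered.coeqHom g g', fun t ht => ?_⟩
    rcases Finset.mem_insert.1 ht with rfl | ht
    · have hcond : F.map g ≫ F.map (IsFiltered.coeqHom g g') = F.map g' ≫ F.map (IsFiltered.coeqHom g g') := by
        rw [← F.map_comp, ← F.map_comp, IsFiltered.coeq_condition]
      have h1 := congrArg (fun q : F.obj k ⟶ F.obj (IsFiltered.coeq g g') => q.hom ((F.map f).hom (y t))) hcond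
      simp only [CommRingCat.hom_comp, RingHom.comp_apply, Functor.map_comp] at h1 ⊢
      exact (congrArg _ hg).trans h1.symm
    · simp only [CommRingCat.hom_comp, RingHom.comp_apply, Functor.map_comp, hf t ht]

/-- An index for the entries of one square or one differential matrix in a range. -/
abbrev Idx (n : ℤ → ℕ) (p q : ℤ → ℤ) (S : Finset ℤ) : Type := Σ i : S, Fin (n (p i)) × Fin (n (q i))

include hc in
theorem exists_lift_mat {n : ℤ → ℕ} (p q : ℤ → ℤ) (S : Finset ℤ)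
    (M : ∀ i, Matrix (Fin (n (p i))) (Fin (n (q i))) c.pt) :
    ∃ (j : J) (N : ∀ i, Matrix (Fin (n (p i))) (Fin (n (q i))) (F.obj j)),
      ∀ i ∈ S, (N i).map (c.ι.app j).hom = M i := by
  classical
  obtain ⟨j, y, hy⟩ := exists_lift hc (Finset.univ : Finset (Idx n p q S)) fun t => M t.1 t.2.1 t.2.2
  refine ⟨j, fun i => Matrix.of fun r l => if h : i ∈ S then y ⟨⟨i, h⟩, r, l⟩ else 0, fun i hi => ?_⟩
  ext r l
  simp only [Matrix.map_apply, Matrix.of_apply, dif_pos hi]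
  exact hy ⟨⟨i, hi⟩, r, l⟩ (Finset.mem_univ _)

include hc in
theorem exists_eq_mat {n : ℤ → ℕ} {j : J} (p q : ℤ → ℤ) (S : Finset ℤ)
    (M N : ∀ i, Matrix (Fin (n (p i))) (Fin (n (q i))) (F.obj j))
    (h : ∀ i ∈ S, (M i).map (c.ι.app j).hom = (N i).map (c.ι.app j).hom) :
    ∃ (k : J) (f : j ⟶ k), ∀ (l : J) (g : k ⟶ l), ∀ i ∈ S,
      (M i).map (F.map (f ≫ g)).hom = (N i).map (F.map (f ≫ g)).hom := by
  classical
  obtain ⟨k, f, hf⟩ := exists_eq hc (Finset.univ : Finset (Idx n p q S))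
    (fun t => M t.1 t.2.1 t.2.2) (fun t => N t.1 t.2.1 t.2.2)
    (fun t _ => congrFun (congrFun (h t.1 t.1.2) t.2.1) t.2.2)
  refine ⟨k, f, fun l g i hi => ?_⟩
  ext r s
  simp only [Matrix.map_apply, Functor.map_comp, CommRingCat.hom_comp, RingHom.comp_apply]
  exact congrArg _ (hf ⟨⟨i, hi⟩, r, s⟩ (Finset.mem_univ _))

theorem map_map_ι {m l : Type} {j k : J} (f : j ⟶ k) (M : Matrix m l (F.obj j)) :
    (M.map (F.map f).hom).map (c.ι.app k).hom = M.map (c.ι.app j).hom := by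
  ext a b
  simp only [Matrix.map_apply, ι_map]

theorem mat_eq_of_zero {R : Type u} [CommRing R] {p q : ℕ} (h : p = 0 ∨ q = 0)
    (M N : Matrix (Fin p) (Fin q) R) : M = N := by
  ext r s
  rcases h with h | h
  · exact (Fin.cast h r).elim0
  · exact (Fin.cast h s).elim0

include hc in
/-- The matrices descend. -/
theorem exists_data_descend {n : ℤ → ℕ} {a b : ℤ} (hn : ∀ i, i < a ∨ b < i → n i = 0) (D : Data c.pt n) :
    ∃ (j : J) (Dj : Data (F.obj j) n),
      (∀ i, (Dj.e i).map (c.ι.app j).hom = D.e i) ∧ ∀ i, (Dj.d i).map (c.ι.app j).hom = D.d i := by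
  classical
  let S := Finset.Icc (a - 2) b
  have hout : ∀ i, i ∉ S → n i = 0 := fun i hi => hn i (by rw [Finset.mem_Icc] at hi; omega)
  obtain ⟨j₁, e₁, he₁⟩ := exists_lift_mat hc (fun i => i) (fun i => i) S D.e
  obtain ⟨j₂, d₂, hd₂⟩ := exists_lift_mat hc (fun i => i + 1) (fun i => i) S D.d
  let j₃ := IsFiltered.max j₁ j₂
  let E : ∀ i, Matrix (Fin (n i)) (Fin (n i)) (F.obj j₃) := fun i =>
    (e₁ i).map (F.map (IsFiltered.leftToMax j₁ j₂)).hom
  let d : ∀ i, Matrix (Fin (n (i + 1))) (Fin (n i)) (F.obj j₃) := fun i =>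
    (d₂ i).map (F.map (IsFiltered.rightToMax j₁ j₂)).hom
  have hE : ∀ i, (E i).map (c.ι.app j₃).hom = D.e i := fun i => by
    by_cases hi : i ∈ S
    · rw [map_map_ι]; exact he₁ i hi
    · exact mat_eq_of_zero (Or.inl (hout i hi)) _ _
  have hd : ∀ i, (d i).map (c.ι.app j₃).hom = D.d i := fun i => by
    by_cases hi : i ∈ S
    · rw [map_map_ι]; exact hd₂ i hi
    · exact mat_eq_of_zero (Or.inr (hout i hi)) _ _
  obtain ⟨k₁, f₁, hk₁⟩ := exists_eq_mat hc (fun i => i) (fun i => i) S (fun i => E i * E i) E fun i _ => by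
    rw [Matrix.map_mul, hE, D.idem]
  obtain ⟨k₂, f₂, hk₂⟩ := exists_eq_mat hc (fun i => i + 1) (fun i => i) S (fun i => d i * E i) d fun i _ => by
    rw [Matrix.map_mul, hE, hd, D.d_e]
  obtain ⟨k₃, f₃, hk₃⟩ := exists_eq_mat hc (fun i => i + 1) (fun i => i) S (fun i => E (i + 1) * d i) d
    fun i _ => by rw [Matrix.map_mul, hE, hd, D.e_d]
  obtain ⟨k₄, f₄, hk₄⟩ := exists_eq_mat hc (fun i => i + 1 + 1) (fun i => i) S (fun i => d (i + 1) * d i)
    (fun i => 0) fun i _ => by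
      rw [Matrix.map_mul, hd, hd, D.d_d, Matrix.map_zero _ (map_zero _)]
  obtain ⟨l₁, u₁, u₂, hu⟩ : ∃ (l : J) (u : k₁ ⟶ l) (v : k₂ ⟶ l), f₁ ≫ u = f₂ ≫ v := by
    obtain ⟨l, u, v, h⟩ := IsFiltered.span f₁ f₂; exact ⟨l, u, v, h⟩
  obtain ⟨l₂, v₃, v₄, hv⟩ : ∃ (l : J) (u : k₃ ⟶ l) (v : k₄ ⟶ l), f₃ ≫ u = f₄ ≫ v := by
    obtain ⟨l, u, v, h⟩ := IsFiltered.span f₃ f₄; exact ⟨l, u, v, h⟩
  obtain ⟨l, w₁, w₂, hw⟩ := IsFiltered.span (f₁ ≫ u₁) (f₃ ≫ v₃)
  let f := f₁ ≫ u₁ ≫ w₁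
  have hf2 : f = f₂ ≫ u₂ ≫ w₁ := by simp only [f, ← Category.assoc, hu]
  have hf3 : f = f₃ ≫ v₃ ≫ w₂ := by simp only [f, ← Category.assoc]; exact hw
  have hf4 : f = f₄ ≫ v₄ ≫ w₂ := by rw [hf3, ← Category.assoc, hv, Category.assoc]
  have hsub : ∀ i, i ∉ S → n i = 0 := hout
  refine ⟨l,
    { e := fun i => (E i).map (F.map f).hom
      d := fun i => (d i).map (F.map f).hom
      idem := fun i => ?_
      d_e := fun i => ?_
      e_d := fun i => ?_
      d_d := fun i => ?_ }, fun i => (map_map_ι f _).trans (hE i), fun i => (map_map_ι f _).trans (hd i)⟩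
  · by_cases hi : i ∈ S
    · rw [← Matrix.map_mul]; exact hk₁ l (u₁ ≫ w₁) i hi
    · exact mat_eq_of_zero (Or.inl (hsub i hi)) _ _
  · by_cases hi : i ∈ S
    · rw [← Matrix.map_mul, hf2]; exact hk₂ l (u₂ ≫ w₁) i hi
    · exact mat_eq_of_zero (Or.inr (hsub i hi)) _ _
  · by_cases hi : i ∈ S
    · rw [← Matrix.map_mul, hf3]; exact hk₃ l (v₃ ≫ w₂) i hi
    · exact mat_eq_of_zero (Or.inr (hsub i hi)) _ _
  · by_cases hi : i ∈ S
    · rw [← Matrix.map_mul, hf4]
      exact (hk₄ l (v₄ ≫ w₂) i hi).trans (Matrix.map_zero _ (map_zero _))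
    · exact mat_eq_of_zero (Or.inr (hsub i hi)) _ _

include hc in
/-- Perfect objects descend. -/
theorem exists_perfect_descends [∀ j : J, DRing.HasLBaseChange (c.ι.app j).hom] (K : Dual.D c.pt)
    (hK : DRing.IsPerfect c.pt K) :
    ∃ (j : J) (Kj : Dual.D (F.obj j)), DRing.IsPerfect (F.obj j) Kj ∧
      Nonempty ((DRing.LBaseChange (c.ι.app j).hom).obj Kj ≅ K) := by
  obtain ⟨E, a, b, h0, hE, ⟨eK⟩⟩ := hK
  obtain ⟨n, D, hn, ⟨eE⟩⟩ := exists_data E h0 hE
  obtain ⟨j, Dj, he, hd⟩ := exists_data_descend hc hn D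
  refine ⟨j, DRing.toD Dj.cx, ⟨Dj.cx, a, b, Dj.vanishesOutside hn, fun i => Dj.finite_projective i, ⟨Iso.refl _⟩⟩,
    ⟨LTensor.LBaseChangeIso _ (KFlat.isKFlat_of_boundedAbove_flat _ b
      (fun i hi => Dj.vanishesOutside hn i (Or.inr hi)) Dj.flat) ≪≫
      DerivedCategory.Q.mapIso (Dj.extIso (c.ι.app j).hom D he hd ≪≫ eE) ≪≫ eK⟩⟩

end Groth.Agent.DRing.PerfColim
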