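import Groth.Agent.DRing.LTensor
import Groth.Agent.DRing.KFlatRes
import Groth.Prelude.Def_DRing2
import Mathlib.LinearAlgebra.Matrix.ToLin

/-!
# Complexes of projective modules cut out by idempotent matrices
-/

universe u

open CategoryTheory CategoryTheory.Limits
open scoped TensorProduct

namespace Groth.Agent.DRing.PerfColim

/-- A complex given by idempotent matrices and differentials compatible with them. -/
structure Data (R : Type u) [CommRing R] (n : ℤ → ℕ) where
  /-- The idempotents. -/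
  e : ∀ i, Matrix (Fin (n i)) (Fin (n i)) R
  /-- The differentials. -/
  d : ∀ i, Matrix (Fin (n (i + 1))) (Fin (n i)) R
  idem : ∀ i, e i * e i = e i
  d_e : ∀ i, d i * e i = d i
  e_d : ∀ i, e (i + 1) * d i = d i
  d_d : ∀ i, d (i + 1) * d i = 0

namespace Data

variable {R : Type u} [CommRing R] {n : ℤ → ℕ} (D : Data R n)

/-- The terms. -/
abbrev obj (i : ℤ) : Submodule R (Fin (n i) → R) := LinearMap.range (D.e i).mulVecLin

theorem e_apply {i : ℤ} (v : D.obj i) : Matrix.mulVec (D.e i) (v : Fin (n i) → R) = v := by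
  obtain ⟨w, hw⟩ := v.2
  rw [← hw, Matrix.mulVecLin_apply, Matrix.mulVec_mulVec, D.idem]

/-- The differential. -/
noncomputable def diff (i : ℤ) : D.obj i →ₗ[R] D.obj (i + 1) :=
  ((D.d i).mulVecLin ∘ₗ (D.obj i).subtype).codRestrict _ fun v =>
    ⟨Matrix.mulVec (D.d i) (v : Fin (n i) → R), by
      rw [Matrix.mulVecLin_apply, Matrix.mulVec_mulVec, D.e_d]; rfl⟩

theorem diff_coe {i : ℤ} (v : D.obj i) :
    (D.diff i v : Fin (n (i + 1)) → R) = Matrix.mulVec (D.d i) (v : Fin (n i) → R) := rfl

/-- The complex. -/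
noncomputable def cx : DRing.Cx R :=
  CochainComplex.of (fun i => ModuleCat.of R (D.obj i)) (fun i => ModuleCat.ofHom (D.diff i)) fun i =>
    ModuleCat.hom_ext (LinearMap.ext fun v => Subtype.ext (by
      change Matrix.mulVec (D.d (i + 1)) (Matrix.mulVec (D.d i) (v : Fin (n i) → R)) = 0
      rw [Matrix.mulVec_mulVec, D.d_d, Matrix.zero_mulVec]))

theorem cx_d (i : ℤ) : D.cx.d i (i + 1) = ModuleCat.ofHom (D.diff i) :=
  CochainComplex.of_d (X := fun i => ModuleCat.of R (D.obj i)) (fun i => ModuleCat.ofHom (D.diff i)) i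

/-- The idempotent as a map onto the term. -/
noncomputable def proj (i : ℤ) : (Fin (n i) → R) →ₗ[R] D.obj i := (D.e i).mulVecLin.rangeRestrict

theorem finite_projective (i : ℤ) : Module.Finite R (D.obj i) ∧ Module.Projective R (D.obj i) :=
  ⟨Module.Finite.of_surjective (D.proj i) (LinearMap.surjective_rangeRestrict _),
    Module.Projective.of_split (D.obj i).subtype (D.proj i)
      (LinearMap.ext fun v => Subtype.ext (D.e_apply v))⟩

theorem subsingleton_obj {i : ℤ} (h : n i = 0) : Subsingleton (D.obj i) := by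
  haveI : IsEmpty (Fin (n i)) := h ▸ Fin.isEmpty
  exact ⟨fun a b => Subtype.ext (Subsingleton.elim _ _)⟩

theorem vanishesOutside {a b : ℤ} (h : ∀ i, i < a ∨ b < i → n i = 0) : DRing.VanishesOutside D.cx a b :=
  fun i hi => by
    haveI := D.subsingleton_obj (h i hi)
    exact ModuleCat.isZero_of_subsingleton (ModuleCat.of R (D.obj i))

theorem flat (i : ℤ) : Module.Flat R (D.cx.X i) := by
  have := (D.finite_projective i).2
  exact Module.Flat.of_projective (R := R) (M := D.obj i)

section baseChange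

variable {S : Type u} [CommRing S] (φ : R →+* S) (E : Data S n)
  (he : ∀ i, (D.e i).map φ = E.e i) (hd : ∀ i, (D.d i).map φ = E.d i)

include he in
theorem map_mem {i : ℤ} (v : D.obj i) : φ ∘ (v : Fin (n i) → R) ∈ E.obj i :=
  ⟨φ ∘ (v : Fin (n i) → R), funext fun k => by
    rw [Matrix.mulVecLin_apply, ← he, ← RingHom.map_mulVec, D.e_apply]; rfl⟩

/-- The comparison map `S ⊗ range e → range (φ e)`. -/
noncomputable def fwd (i : ℤ) :
    letI := φ.toAlgebra
    S ⊗[R] D.obj i →ₗ[S] E.obj i :=
  letI := φ.toAlgebra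
  TensorProduct.AlgebraTensorModule.lift
    (LinearMap.toSpanSingleton S (D.obj i →ₗ[R] E.obj i)
      { toFun := fun v => ⟨φ ∘ (v : Fin (n i) → R), D.map_mem φ E he v⟩
        map_add' := fun v w => Subtype.ext (funext fun k => map_add φ _ _)
        map_smul' := fun r v => Subtype.ext (funext fun k => map_mul φ _ _) })

theorem fwd_tmul (i : ℤ) (s : S) (v : D.obj i) :
    letI := φ.toAlgebra
    (D.fwd φ E he i (s ⊗ₜ[R] v) : Fin (n i) → S) = s • (φ ∘ (v : Fin (n i) → R)) := rfl

theorem fwd_bijective (i : ℤ) : Function.Bijective (D.fwd φ E he i) := by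
  letI := φ.toAlgebra
  let col : Fin (n i) → D.obj i := fun k => D.proj i (Pi.single k 1)
  let bwd : E.obj i →ₗ[S] S ⊗[R] D.obj i :=
    (∑ k, LinearMap.toSpanSingleton S (S ⊗[R] D.obj i) ((1 : S) ⊗ₜ[R] col k) ∘ₗ LinearMap.proj k) ∘ₗ
      (E.obj i).subtype
  have hbwd : ∀ w : E.obj i, bwd w = ∑ k, ((w : Fin (n i) → S) k) ⊗ₜ[R] col k := fun w => by
    simp [bwd, TensorProduct.smul_tmul', LinearMap.sum_apply]
  have hleft : ∀ t, bwd (D.fwd φ E he i t) = t := by
    intro t
    induction t using TensorProduct.induction_on with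
    | zero => rw [map_zero, map_zero]
    | add p q hp hq => rw [map_add, map_add, hp, hq]
    | tmul s v =>
      rw [hbwd]
      simp only [fwd_tmul, Pi.smul_apply, Function.comp_apply, smul_eq_mul]
      have e1 : ∀ k, (s * φ ((v : Fin (n i) → R) k)) ⊗ₜ[R] col k =
          s ⊗ₜ[R] ((v : Fin (n i) → R) k • col k) := fun k => by
        rw [mul_comm, show φ ((v : Fin (n i) → R) k) * s = (v : Fin (n i) → R) k • s from rfl,
          TensorProduct.smul_tmul]
      simp only [e1, ← TensorProduct.tmul_sum]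
      congr 1
      rw [← Finset.sum_congr rfl fun k _ => map_smul (D.proj i) _ _, ← map_sum,
        ← pi_eq_sum_univ' (v : Fin (n i) → R)]
      exact Subtype.ext (D.e_apply v)
  have hright : ∀ w, D.fwd φ E he i (bwd w) = w := fun w => by
    rw [hbwd, map_sum]
    refine Subtype.ext ?_
    rw [AddSubmonoidClass.coe_finsetSum]
    refine Eq.trans ?_ (E.e_apply w)
    funext a
    rw [Finset.sum_apply, Matrix.mulVec, dotProduct]
    refine Finset.sum_congr rfl fun k _ => ?_
    rw [fwd_tmul, Pi.smul_apply, Function.comp_apply, smul_eq_mul, mul_comm, ← he]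
    congr 1
    change φ (Matrix.mulVec (D.e i) (Pi.single k 1) a) = _
    rw [Matrix.mulVec_single_one]
    rfl
  exact ⟨Function.LeftInverse.injective hleft, Function.RightInverse.surjective hright⟩

include hd in
theorem fwd_comm (i : ℤ) (v : D.obj i) :
    letI := φ.toAlgebra
    E.diff i (D.fwd φ E he i ((1 : S) ⊗ₜ[R] v)) = D.fwd φ E he (i + 1) ((1 : S) ⊗ₜ[R] D.diff i v) := by
  refine Subtype.ext ?_
  rw [fwd_tmul, diff_coe, fwd_tmul, Matrix.mulVec_smul, ← hd]
  congr 1
  funext a
  rw [← RingHom.map_mulVec]; rfl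

include hd in
/-- Extension of scalars of the complex. -/
noncomputable def extIso : (LTensor.extCx φ).obj D.cx ≅ E.cx :=
  HomologicalComplex.Hom.isoOfComponents
    (fun i => (letI := φ.toAlgebra; LinearEquiv.ofBijective (D.fwd φ E he i) (D.fwd_bijective φ E he i)).toModuleIso)
    fun i j hij => by
      obtain rfl : i + 1 = j := hij
      rw [Functor.mapHomologicalComplex_obj_d, D.cx_d, E.cx_d]
      refine ModuleCat.ExtendScalars.hom_ext fun v => ?_
      exact D.fwd_comm φ E he hd i v

end baseChange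

end Data

/-- A bounded complex of finite projective modules is cut out by matrices. -/
theorem exists_data {R : Type u} [CommRing R] (E : DRing.Cx R) {a b : ℤ} (h0 : DRing.VanishesOutside E a b)
    (hE : DRing.TermwiseFiniteProjective E) :
    ∃ (n : ℤ → ℕ) (D : Data R n), (∀ i, i < a ∨ b < i → n i = 0) ∧ Nonempty (D.cx ≅ E) := by
  have H : ∀ i, ∃ (m : ℕ) (π : (Fin m → R) →ₗ[R] E.X i) (s : E.X i →ₗ[R] (Fin m → R)),
      (∀ x, π (s x) = x) ∧ (i < a ∨ b < i → m = 0) := fun i => by
    haveI := (hE i).1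
    haveI := (hE i).2
    by_cases hi : i < a ∨ b < i
    · haveI := ModuleCat.subsingleton_of_isZero (h0 i hi)
      exact ⟨0, 0, 0, fun x => Subsingleton.elim _ _, fun _ => rfl⟩
    · obtain ⟨m, π, hπ⟩ := Module.Finite.exists_fin' R (E.X i)
      obtain ⟨s, hs⟩ := Module.projective_lifting_property π LinearMap.id hπ
      exact ⟨m, π, s, fun x => LinearMap.congr_fun hs x, fun h => absurd h hi⟩
  choose n π s hs hn using H
  have hmul : ∀ {p q r : ℕ} (f : (Fin q → R) →ₗ[R] (Fin r → R)) (g : (Fin p → R) →ₗ[R] (Fin q → R)),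
      LinearMap.toMatrix' f * LinearMap.toMatrix' g = LinearMap.toMatrix' (f ∘ₗ g) := fun f g =>
    (LinearMap.toMatrix'_comp f g).symm
  let D : Data R n :=
    { e := fun i => LinearMap.toMatrix' (s i ∘ₗ π i)
      d := fun i => LinearMap.toMatrix' (s (i + 1) ∘ₗ (E.d i (i + 1)).hom ∘ₗ π i)
      idem := fun i => by rw [hmul]; exact congrArg _ (LinearMap.ext fun v => by simp [hs])
      d_e := fun i => by rw [hmul]; exact congrArg _ (LinearMap.ext fun v => by simp [hs])
      e_d := fun i => by rw [hmul]; exact congrArg _ (LinearMap.ext fun v => by simp [hs])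
      d_d := fun i => by
        rw [hmul, ← map_zero LinearMap.toMatrix']
        refine congrArg _ (LinearMap.ext fun v => ?_)
        have h2 : (E.d (i + 1) (i + 1 + 1)).hom ((E.d i (i + 1)).hom (π i v)) = 0 := by
          rw [← LinearMap.comp_apply, ← ModuleCat.hom_comp, E.d_comp_d]; rfl
        simp [hs, h2] }
  have he : ∀ i, (D.e i).mulVecLin = s i ∘ₗ π i := fun i => Matrix.toLin'_toMatrix' _
  have hd : ∀ i v, Matrix.mulVec (D.d i) v = s (i + 1) ((E.d i (i + 1)).hom (π i v)) := fun i v =>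
    LinearMap.congr_fun (Matrix.toLin'_toMatrix' (s (i + 1) ∘ₗ (E.d i (i + 1)).hom ∘ₗ π i)) v
  have hbij : ∀ i, Function.Bijective ((π i).comp (D.obj i).subtype) := fun i => by
    constructor
    · intro v w h
      refine Subtype.ext ?_
      rw [← D.e_apply v, ← D.e_apply w, ← Matrix.mulVecLin_apply, ← Matrix.mulVecLin_apply, he]
      exact congrArg (s i) h
    · intro x
      exact ⟨⟨s i x, ⟨s i x, by rw [he]; exact congrArg (s i) (hs i x)⟩⟩, hs i x⟩
  refine ⟨n, D, hn, ⟨HomologicalComplex.Hom.isoOfComponents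
    (fun i => (LinearEquiv.ofBijective _ (hbij i)).toModuleIso) fun i j hij => ?_⟩⟩
  obtain rfl : i + 1 = j := hij
  rw [D.cx_d]
  refine ModuleCat.hom_ext (LinearMap.ext fun v => ?_)
  have key : ∀ v : D.obj i,
      (E.d i (i + 1)).hom (π i (v : Fin (n i) → R)) = π (i + 1) (D.diff i v : Fin (n (i + 1)) → R) :=
    fun v => by rw [D.diff_coe, hd, hs]
  exact key v

end Groth.Agent.DRing.PerfColim
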